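import Groth.Prelude.Def_CohB1
import Groth.Agent.H98Proj.SmoothPn
import Mathlib

set_option autoImplicit false
set_option maxHeartbeats 400000
set_option backward.isDefEq.respectTransparency.types false
universe u

open CategoryTheory CategoryTheory.Limits AlgebraicGeometry
open scoped TensorProduct

/-!
# Affine pieces of finite type morphisms embed into projective space over the target
-/

namespace Groth.Agent.H98Proj

/-- Two ring maps whose images generate give a closed immersion into the fibre product. -/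
theorem isClosedImmersion_lift {Z A R B : Type u} [CommRing Z] [CommRing A] [CommRing R] [CommRing B]
    (a : Z →+* A) (r : Z →+* R) (ev : A →+* B) (g : R →+* B) (w : ev.comp a = g.comp r)
    (hgen : ∀ x, x ∈ Subring.closure (Set.range ev ∪ Set.range g)) :
    ∃ c : Spec (CommRingCat.of B) ⟶ pullback (Spec.map (CommRingCat.ofHom a)) (Spec.map (CommRingCat.ofHom r)),
      IsClosedImmersion c ∧ c ≫ pullback.snd _ _ = Spec.map (CommRingCat.ofHom g) := by
  algebraize [a, r, ev.comp a]
  let evA : A →ₐ[Z] B := { ev with commutes' := fun z => rfl }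
  let gA : R →ₐ[Z] B := { g with commutes' := fun z => (RingHom.congr_fun w z).symm }
  let h : A ⊗[Z] R →ₐ[Z] B := Algebra.TensorProduct.productMap evA gA
  have hsurj : Function.Surjective h := fun x => by
    have hle : Subring.closure (Set.range ev ∪ Set.range g) ≤ h.toRingHom.range :=
      Subring.closure_le.mpr (Set.union_subset
        (Set.range_subset_iff.mpr fun y => ⟨y ⊗ₜ 1, by simp [h, evA]⟩)
        (Set.range_subset_iff.mpr fun y => ⟨1 ⊗ₜ y, by simp [h, gA]⟩))
    exact hle (hgen x)
  have : IsClosedImmersion (Spec.map (CommRingCat.ofHom h.toRingHom)) :=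
    IsClosedImmersion.spec_of_surjective (CommRingCat.ofHom h.toRingHom) hsurj
  refine ⟨Spec.map (CommRingCat.ofHom h.toRingHom) ≫ (pullbackSpecIso Z A R).inv,
    inferInstanceAs (IsClosedImmersion (_ ≫ _)), ?_⟩
  refine (Category.assoc _ _ _).trans ?_
  refine (congrArg (_ ≫ ·) (pullbackSpecIso_inv_snd Z A R)).trans ?_
  rw [← Spec.map_comp, ← CommRingCat.ofHom_comp]
  congr 2
  exact RingHom.ext fun y => by simp [h, gA]

/-- An affine open mapping with finite type into an affine open of the target immerses into `P^N` over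
the target. -/
theorem exists_immersion_projSpaceOver {X Y : Scheme.{u}} (f : X ⟶ Y) [LocallyOfFiniteType f]
    {U : X.Opens} (hU : IsAffineOpen U) {V : Y.Opens} (hV : IsAffineOpen V) (hUV : U ≤ f ⁻¹ᵁ V) :
    ∃ (N : ℕ) (ψ : (U : Scheme.{u}) ⟶ CohB1.ProjSpaceOver N Y),
      IsImmersion ψ ∧ ψ ≫ CohB1.ProjSpaceOver.toBase N Y = U.ι ≫ f := by
  classical
  algebraize [(f.appLE V U hUV).hom]
  have hft : Algebra.FiniteType Γ(Y, V) Γ(X, U) := f.finiteType_appLE hV hU hUV
  obtain ⟨N, π, hπ⟩ := Algebra.FiniteType.iff_quotient_mvPolynomial''.mp hft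
  let Z : Type u := ULift.{u} ℤ
  let j : Fin (N + 1) := 0
  let t : MvPolynomial (Fin (N + 1)) Z := MvPolynomial.X j
  have ht : t ∈ CohB1.polyGrading N Z 1 := (Approx60.ProjCharts.X₁ Z N j).2
  let A := HomogeneousLocalization.Away (CohB1.polyGrading N Z) t
  let φ : MvPolynomial (Fin (N + 1)) Z →+* Γ(X, U) :=
    MvPolynomial.eval₂Hom ((Int.castRingHom _).comp ULift.ringEquiv.toRingHom)
      (Fin.cons 1 fun i => π (MvPolynomial.X i))
  have hu : IsUnit (φ t) := by simp [φ, t, j]
  let ev : A →+* Γ(X, U) := Approx60.ProjCharts.awayEval φ t hu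
  let cA : Z →+* A := (HomogeneousLocalization.fromZeroRingHom (CohB1.polyGrading N Z) _).comp
    (algebraMap Z (CohB1.polyGrading N Z 0))
  let cR : Z →+* Γ(Y, V) := (Int.castRingHom _).comp ULift.ringEquiv.toRingHom
  have huniq : ∀ {T : Type u} [CommRing T] (a b : Z →+* T), a = b := fun a b =>
    RingHom.ext fun z => by
      obtain ⟨n⟩ := z
      have : (⟨n⟩ : Z) = (n : Z) := rfl
      rw [this, map_intCast, map_intCast]
  obtain ⟨c', hc', hc'2⟩ := isClosedImmersion_lift cA cR ev (f.appLE V U hUV).hom (huniq _ _) (by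
    intro x
    obtain ⟨p, rfl⟩ := hπ x
    induction p using MvPolynomial.induction_on with
    | C r => exact Subring.subset_closure (Or.inr ⟨r, (π.commutes r).symm⟩)
    | add p q hp hq => rw [map_add]; exact add_mem hp hq
    | mul_X p i hp =>
      rw [map_mul]
      refine mul_mem hp (Subring.subset_closure (Or.inl
        ⟨Approx60.ProjCharts.frac Z N j (Approx60.ProjCharts.X₁ Z N i.succ), ?_⟩))
      exact (Approx60.ProjCharts.awayEval_frac _ _ j (by simp [j]) hu i.succ).trans (Fin.cons_succ ..))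
  let c := hU.isoSpec.hom ≫ c'
  have hc : IsClosedImmersion c := inferInstance
  let o₁ : Spec (CommRingCat.of A) ⟶ CohB1.ProjSpace N Z := Proj.awayι (CohB1.polyGrading N Z) t ht one_pos
  haveI : IsOpenImmersion o₁ := inferInstanceAs (IsOpenImmersion (Proj.awayι (CohB1.polyGrading N Z) t ht one_pos))
  have hcomm₁ : Spec.map (CommRingCat.ofHom cA) ≫ 𝟙 _ =
      o₁ ≫ CohB1.ProjSpace.toSpec N Z := specULiftZIsTerminal.hom_ext _ _
  have hcomm₂ : Spec.map (CommRingCat.ofHom cR) ≫ 𝟙 _ =
      hV.fromSpec ≫ specULiftZIsTerminal.from Y := specULiftZIsTerminal.hom_ext _ _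
  let o : pullback (Spec.map (CommRingCat.ofHom cA))
      (Spec.map (CommRingCat.ofHom cR)) ⟶ CohB1.ProjSpaceOver N Y :=
    pullback.map _ _ _ _ o₁ hV.fromSpec (𝟙 _) hcomm₁ hcomm₂
  have : IsOpenImmersion hV.fromSpec := IsAffineOpen.isOpenImmersion_fromSpec hV
  have ho : IsOpenImmersion o := by
    refine Scheme.pullback_map_isOpenImmersion _ _ _ _ _ _ _ _ _
  refine ⟨N, c ≫ o, inferInstance, ?_⟩
  have ho2 : o ≫ CohB1.ProjSpaceOver.toBase N Y = pullback.snd _ _ ≫ hV.fromSpec := pullback.lift_snd _ _ _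
  calc (c ≫ o) ≫ CohB1.ProjSpaceOver.toBase N Y = c ≫ pullback.snd _ _ ≫ hV.fromSpec := by
        rw [Category.assoc, ho2]
    _ = hU.isoSpec.hom ≫ Spec.map (f.appLE V U hUV) ≫ hV.fromSpec := by
        simp only [c, Category.assoc]
        rw [reassoc_of% hc'2]
        rfl
    _ = U.ι ≫ f := by
        rw [IsAffineOpen.SpecMap_appLE_fromSpec f hV hU hUV, hU.isoSpec_hom, ← Category.assoc,
          hU.toSpecΓ_fromSpec]

end Groth.Agent.H98Proj
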